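import Groth.Agent.Lib.Unibranch.Points
import Groth.Agent.Lib.Weight.Multiplicity
import Groth.Agent.Lib.Hensel.Reduced
import Groth.Agent.Lib.AlgSp.SourceDescent
import Mathlib.AlgebraicGeometry.FunctionField
import Mathlib.AlgebraicGeometry.Morphisms.ClosedImmersion

/-! # Unramified dominant morphisms over geometrically unibranch schemes are etale -/

universe u

open CategoryTheory Limits AlgebraicGeometry Topology TopologicalSpace

namespace GrothLib.Unibranch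

variable {X Y : Scheme.{u}}

theorem isReduced_of_etale (g : X ⟶ Y) [Etale g] [IsReduced Y] : IsReduced X := by
  haveI : ∀ x : X, _root_.IsReduced (X.presheaf.stalk x) := fun x ↦ by
    obtain ⟨_, ⟨V, hV, rfl⟩, hxV, -⟩ :=
      Y.isBasis_affineOpens.exists_subset_of_mem_open (Set.mem_univ (g x)) isOpen_univ
    obtain ⟨_, ⟨W, hW, rfl⟩, hxW, hWV⟩ :=
      X.isBasis_affineOpens.exists_subset_of_mem_open hxV (g ⁻¹ᵁ V).2
    have he := HasRingHomProperty.appLE @Etale g inferInstance ⟨V, hV⟩ ⟨W, hW⟩ hWV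
    letI := (g.appLE V W hWV).hom.toAlgebra
    haveI : Algebra.Etale Γ(Y, V) Γ(X, W) := he
    haveI : _root_.IsReduced Γ(X, W) := GrothLib.Hensel.isReduced_of_etale Γ(Y, V) Γ(X, W)
    letI := TopCat.Presheaf.algebra_section_stalk X.presheaf ⟨x, hxW⟩
    haveI := hW.isLocalization_stalk ⟨x, hxW⟩
    exact isReduced_localizationPreserves (hW.primeIdealOf ⟨x, hxW⟩).asIdeal.primeCompl _
      inferInstance
  exact isReduced_of_isReduced_stalk X

theorem formallyUnramified_comp_openImmersion {X' : Scheme.{u}} (j : X' ⟶ X) [IsOpenImmersion j]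
    (f : X ⟶ Y) [FormallyUnramified f] : FormallyUnramified (j ≫ f) :=
  IsZariskiLocalAtSource.comp ‹FormallyUnramified f› j

/-- Locally, an unramified morphism is a closed immersion into a scheme etale over the base. -/
theorem exists_closedImmersion_etale (f : X ⟶ Y) [LocallyOfFiniteType f] (x : X)
    (hunr : ∃ U : X.Opens, x ∈ U ∧ FormallyUnramified (U.ι ≫ f)) :
    ∃ (D : X.Opens) (X' : Scheme.{u}) (i : (D : Scheme.{u}) ⟶ X') (g : X' ⟶ Y),
      x ∈ D ∧ IsClosedImmersion i ∧ Etale g ∧ i ≫ g = D.ι ≫ f ∧ ∀ y, (g ⁻¹' {y}).Finite := by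
  obtain ⟨U, hxU, hU⟩ := hunr
  obtain ⟨_, ⟨(V : Y.Opens), hV, rfl⟩, hxV, -⟩ :=
    Y.isBasis_affineOpens.exists_subset_of_mem_open (Set.mem_univ (f x)) isOpen_univ
  obtain ⟨_, ⟨(W : X.Opens), hW, rfl⟩, hxW, hWUV⟩ := X.isBasis_affineOpens.exists_subset_of_mem_open
    (show x ∈ U ⊓ f ⁻¹ᵁ V from ⟨hxU, hxV⟩) (U ⊓ f ⁻¹ᵁ V).2
  have hWV : W ≤ f ⁻¹ᵁ V := fun z hz ↦ (hWUV hz).2
  have hWU : W ≤ U := fun z hz ↦ (hWUV hz).1
  letI := (f.appLE V W hWV).hom.toAlgebra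
  haveI : Algebra.FiniteType Γ(Y, V) Γ(X, W) := f.finiteType_appLE hV hW hWV
  haveI : Algebra.FormallyUnramified Γ(Y, V) Γ(X, W) := by
    have h1 : FormallyUnramified (hW.fromSpec ≫ f) := by
      rw [← hW.isoSpec_inv_ι, ← X.homOfLE_ι hWU, ← Category.assoc, Category.assoc]
      exact formallyUnramified_comp_openImmersion _ (U.ι ≫ f)
    rw [← hV.SpecMap_appLE_fromSpec f hW hWV] at h1
    have h2 := FormallyUnramified.of_comp (Spec.map (f.appLE V W hWV)) hV.fromSpec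
    rw [← RingHom.formallyUnramified_algebraMap]
    exact (HasRingHomProperty.Spec_iff (P := @FormallyUnramified)).mp h2
  haveI : Algebra.Unramified Γ(Y, V) Γ(X, W) := {}
  obtain ⟨h, hhx, P, φ, hφ⟩ := Algebra.IsUnramifiedAt.exists_hasStandardEtaleSurjectionOn
    (R := Γ(Y, V)) (hW.primeIdealOf ⟨x, hxW⟩).asIdeal
  let D := X.basicOpen h
  have hD : IsAffineOpen D := hW.basicOpen h
  have hDW : D ≤ W := X.basicOpen_le h
  letI : Algebra Γ(X, W) Γ(X, D) := (X.presheaf.map (homOfLE hDW).op).hom.toAlgebra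
  haveI : IsLocalization.Away h Γ(X, D) := hW.isLocalization_basicOpen h
  letI : Algebra Γ(Y, V) Γ(X, D) := (f.appLE V D (hDW.trans hWV)).hom.toAlgebra
  haveI : IsScalarTower Γ(Y, V) Γ(X, W) Γ(X, D) := IsScalarTower.of_algebraMap_eq'
    (congrArg CommRingCat.Hom.hom (f.appLE_map hWV (homOfLE hDW).op).symm)
  let e := (IsLocalization.algEquiv (.powers h) (Localization.Away h) Γ(X, D)).restrictScalars
    Γ(Y, V)
  let ψ : CommRingCat.of P.Ring ⟶ Γ(X, D) := CommRingCat.ofHom (e.toAlgHom.comp φ).toRingHom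
  haveI : IsClosedImmersion (Spec.map ψ) :=
    IsClosedImmersion.spec_of_surjective _ (e.surjective.comp hφ)
  let g₀ := Spec.map (CommRingCat.ofHom (algebraMap Γ(Y, V) P.Ring))
  haveI : Etale g₀ := (HasRingHomProperty.Spec_iff (P := @Etale)).mpr
    (RingHom.etale_algebraMap.mpr inferInstance)
  refine ⟨D, _, hD.isoSpec.hom ≫ Spec.map ψ, g₀ ≫ hV.fromSpec, ?_, inferInstance, inferInstance,
    ?_, fun y ↦ ?_⟩
  · have h1 : hW.fromSpec (hW.primeIdealOf ⟨x, hxW⟩) ∈ D := by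
      rw [← Scheme.Hom.mem_preimage (f := hW.fromSpec), hW.fromSpec_preimage_basicOpen]; exact hhx
    rwa [hW.fromSpec_primeIdealOf ⟨x, hxW⟩] at h1
  · have hc : CommRingCat.ofHom (algebraMap Γ(Y, V) P.Ring) ≫ ψ = f.appLE V D (hDW.trans hWV) :=
      CommRingCat.hom_ext (RingHom.ext (e.toAlgHom.comp φ).commutes)
    rw [Category.assoc, ← Category.assoc (Spec.map ψ), ← Spec.map_comp, hc,
      hV.SpecMap_appLE_fromSpec f hD, ← Category.assoc, hD.isoSpec_hom_fromSpec]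
  · haveI : LocallyQuasiFinite g₀ := GrothLib.Weight.locallyQuasiFinite_of_formallyUnramified g₀
    by_cases hy : y ∈ Set.range hV.fromSpec
    · obtain ⟨y, rfl⟩ := hy
      refine (g₀.finite_preimage_singleton y).subset fun z hz ↦ ?_
      exact hV.fromSpec.isOpenEmbedding.injective hz
    · refine Set.Finite.subset Set.finite_empty fun z hz ↦ hy ⟨g₀ z, hz⟩

/-- Near a point with a generization over the generic point, an unramified morphism to an integral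
scheme geometrically unibranch at its image is etale with a unique maximal point. -/
theorem exists_etale_irreducible_nbhd (f : X ⟶ Y) [IsIntegral Y] [LocallyOfFiniteType f] (x : X)
    (hY : CAlg2.IsGeomUnibranch (Y.presheaf.stalk (f x))) (x' : X) (hsp : x' ⤳ x)
    (hx' : f x' = genericPoint Y)
    (hunr : ∃ U : X.Opens, x ∈ U ∧ FormallyUnramified (U.ι ≫ f)) :
    ∃ O : X.Opens, x ∈ O ∧ Etale (O.ι ≫ f) ∧
      ∀ z ∈ O, x' ⤳ z ∧ ∀ ξ, ξ ⤳ z → (∀ w, w ⤳ ξ → w = ξ) → ξ = x' := by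
  obtain ⟨D, X', i, g, hxD, _, _, hig, hfin⟩ := exists_closedImmersion_etale f x hunr
  haveI := isReduced_of_etale g
  haveI : LocallyQuasiFinite g := GrothLib.Weight.locallyQuasiFinite_of_formallyUnramified g
  have hx'D : x' ∈ D := hsp.mem_open D.2 hxD
  have hgi : ∀ z : D, g (i z) = f z := fun z ↦ by
    rw [← Scheme.Hom.comp_apply, hig]; rfl
  let η := i ⟨x', hx'D⟩
  have hηgen : g η = genericPoint Y := (hgi _).trans hx'
  have hgen : ∀ y : Y, y ⤳ genericPoint Y → y = genericPoint Y := fun y hy ↦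
    (hy.antisymm (genericPoint_specializes y)).eq
  have hηmax : ∀ z, z ⤳ η → z = η :=
    maximal_of_locallyQuasiFinite g η (fun y hy ↦ by rw [hηgen] at hy ⊢; exact hgen y hy)
  have hover : ∀ ζ : X', (∀ w, w ⤳ ζ → w = ζ) → g ζ = genericPoint Y := fun ζ hζ ↦
    (maximal_map g (Flat.generalizingMap g) ζ hζ _ (genericPoint_specializes _)).symm
  let bad : Set X' := (g ⁻¹' {genericPoint Y}) \ {η}
  have hbadfin : bad.Finite := (hfin _).diff
  have hηu : η ⤳ i ⟨x, hxD⟩ :=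
    (IsInducing.subtypeVal.specializes_iff.mp (hsp : (⟨x', hx'D⟩ : D).1 ⤳ (⟨x, hxD⟩ : D).1)).map
      i.continuous
  let W' : X'.Opens := ⟨(⋃ ζ ∈ bad, closure {ζ})ᶜ,
    (hbadfin.isClosed_biUnion fun _ _ ↦ isClosed_closure).isOpen_compl⟩
  have hbadmax : ∀ ζ ∈ bad, ∀ w, w ⤳ ζ → w = ζ := fun ζ hζ ↦
    maximal_of_locallyQuasiFinite g ζ (fun y hy ↦ by
      rw [show g ζ = genericPoint Y from hζ.1] at hy ⊢; exact hgen y hy)
  have hxW : i ⟨x, hxD⟩ ∈ W' := by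
    simp only [W', TopologicalSpace.Opens.mem_mk, Set.mem_compl_iff, Set.mem_iUnion, not_exists]
    intro ζ hζ hmem
    exact hζ.2 (eq_of_maximal_of_etale g (i ⟨x, hxD⟩) ((hgi ⟨x, hxD⟩).symm ▸ hY) ζ η
      (specializes_iff_mem_closure.mpr hmem) hηu (hbadmax ζ hζ) hηmax)
  have hW' : ∀ z ∈ W', ∀ ζ, ζ ⤳ z → (∀ w, w ⤳ ζ → w = ζ) → ζ = η := fun z hz ζ hζz hζ ↦ by
    by_contra hne
    exact hz (Set.mem_iUnion₂.mpr ⟨ζ, ⟨hover ζ hζ, hne⟩, hζz.mem_closure⟩)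
  have hηW : ∀ z ∈ W', η ⤳ z := fun z hz ↦ by
    obtain ⟨ζ, hζz, hζ⟩ := exists_maximal_generization z
    rwa [hW' z hz ζ hζz hζ] at hζz
  haveI : IsClosedImmersion (i ∣_ W') := IsZariskiLocalAtTarget.restrict ‹IsClosedImmersion i› W'
  haveI : Surjective (i ∣_ W') := ⟨fun z ↦ by
    obtain ⟨d, hd⟩ : z.1 ∈ Set.range i :=
      (hηW z.1 z.2).mem_closed i.isClosedEmbedding.isClosed_range ⟨⟨x', hx'D⟩, rfl⟩
    refine ⟨⟨d, by show i d ∈ W'; rw [hd]; exact z.2⟩, W'.ι.isOpenEmbedding.injective ?_⟩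
    rw [← Scheme.Hom.comp_apply, morphismRestrict_ι]
    exact hd⟩
  haveI : IsReduced (W' : Scheme.{u}) := isReduced_of_isOpenImmersion W'.ι
  haveI := isIso_of_isClosedImmersion_of_surjective (i ∣_ W')
  let j := (i ⁻¹ᵁ W').ι ≫ D.ι
  have hj : ∀ z, z ∈ j.opensRange ↔ ∃ hz : z ∈ D, i ⟨z, hz⟩ ∈ W' := fun z ↦ by
    constructor
    · rintro ⟨t, rfl⟩
      exact ⟨t.1.2, t.2⟩
    · rintro ⟨hz, hzW⟩
      exact ⟨⟨⟨z, hz⟩, hzW⟩, rfl⟩
  refine ⟨j.opensRange, (hj x).mpr ⟨hxD, hxW⟩, ?_, fun z hz ↦ ?_⟩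
  · rw [← MorphismProperty.cancel_left_of_respectsIso @Etale j.isoOpensRange.hom,
      Scheme.Hom.isoOpensRange_hom_ι_assoc]
    show Etale (((i ⁻¹ᵁ W').ι ≫ D.ι) ≫ f)
    rw [Category.assoc, ← hig, ← Category.assoc, ← morphismRestrict_ι, Category.assoc]
    infer_instance
  · obtain ⟨hzD, hzW⟩ := (hj z).mp hz
    have hinj : ∀ a b : D, i a ⤳ i b → a.1 ⤳ b.1 := fun a b h ↦
      (i.isClosedEmbedding.isInducing.specializes_iff.mp h).map continuous_subtype_val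
    refine ⟨hinj ⟨x', hx'D⟩ ⟨z, hzD⟩ (hηW _ hzW), fun ξ hξz hξ ↦ (hξ x' ?_).symm⟩
    have hξD : ξ ∈ D := hξz.mem_open D.2 hzD
    have hξW : i ⟨ξ, hξD⟩ ∈ W' :=
      ((IsInducing.subtypeVal.specializes_iff.mp (hξz : (⟨ξ, hξD⟩ : D).1 ⤳ (⟨z, hzD⟩ : D).1)).map
        i.continuous).mem_open W'.2 hzW
    exact hinj ⟨x', hx'D⟩ ⟨ξ, hξD⟩ (hηW _ hξW)

theorem etale_of_unramified_dominant (f : X ⟶ Y) [IsIntegral Y]
    (hY : ∀ y : Y, CAlg2.IsGeomUnibranch (Y.presheaf.stalk y)) [ConnectedSpace X]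
    [FormallyUnramified f] [LocallyOfFiniteType f] (hdom : genericPoint Y ∈ Set.range f) :
    Etale f ∧ IrreducibleSpace X := by
  have hunr : ∀ x : X, ∃ U : X.Opens, x ∈ U ∧ FormallyUnramified (U.ι ≫ f) := fun x ↦
    ⟨⊤, trivial, formallyUnramified_comp_openImmersion _ _⟩
  let A : Set X := {z | ∃ z', z' ⤳ z ∧ f z' = genericPoint Y}
  have hA : IsClopen A := by
    refine ⟨isOpen_compl_iff.mp (isOpen_iff_mem_nhds.mpr fun z hz ↦ ?_),
      isOpen_iff_mem_nhds.mpr fun z hz ↦ ?_⟩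
    · obtain ⟨D, X', i, g, hzD, _, -, hig, hfin⟩ := exists_closedImmersion_etale f z (hunr z)
      let F : Set D := i ⁻¹' (g ⁻¹' {genericPoint Y})
      have hF : F.Finite := (hfin _).preimage i.isClosedEmbedding.injective.injOn
      let C : Set X := ⋃ d ∈ F, closure {d.1}
      have hC : IsClosed C := hF.isClosed_biUnion fun _ _ ↦ isClosed_closure
      refine Filter.mem_of_superset ((D.2.inter hC.isOpen_compl).mem_nhds ⟨hzD, fun h ↦ hz ?_⟩)
        fun w hw ⟨w', hw', hgen⟩ ↦ hw.2 ?_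
      · obtain ⟨d, hd, hmem⟩ := Set.mem_iUnion₂.mp h
        refine ⟨d.1, specializes_iff_mem_closure.mpr hmem, ?_⟩
        rw [← show g (i d) = genericPoint Y from hd, ← Scheme.Hom.comp_apply, hig]; rfl
      · refine Set.mem_iUnion₂.mpr ⟨⟨w', hw'.mem_open D.2 hw.1⟩, ?_, hw'.mem_closure⟩
        show g (i _) = genericPoint Y
        rw [← Scheme.Hom.comp_apply, hig, ← hgen]; rfl
    · obtain ⟨z', hz', hgen⟩ := hz
      obtain ⟨O, hzO, -, hO⟩ :=
        exists_etale_irreducible_nbhd f z (hY _) z' hz' hgen (hunr z)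
      exact Filter.mem_of_superset (O.2.mem_nhds hzO) fun w hw ↦ ⟨z', (hO w hw).1, hgen⟩
  have hAu : A = Set.univ := by
    obtain ⟨x₀, hx₀⟩ := hdom
    exact (isClopen_iff.mp hA).resolve_left fun h ↦ by
      have : x₀ ∈ A := ⟨x₀, specializes_rfl, hx₀⟩
      rw [h] at this; exact this
  have key : ∀ z : X, ∃ (O : X.Opens) (z' : X), z ∈ O ∧ Etale (O.ι ≫ f) ∧
      ∀ w ∈ O, z' ⤳ w ∧ ∀ ξ, ξ ⤳ w → (∀ v, v ⤳ ξ → v = ξ) → ξ = z' := fun z ↦ by
    obtain ⟨z', hz', hgen⟩ : z ∈ A := hAu ▸ Set.mem_univ z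
    obtain ⟨O, h1, h2, h3⟩ := exists_etale_irreducible_nbhd f z (hY _) z' hz' hgen (hunr z)
    exact ⟨O, z', h1, h2, h3⟩
  choose O z' hzO het huniq using key
  refine ⟨IsZariskiLocalAtSource.of_iSup_eq_top (P := @Etale) O
    (eq_top_iff.mpr fun z _ ↦ TopologicalSpace.Opens.mem_iSup.mpr ⟨z, hzO z⟩) het, ?_⟩
  obtain ⟨x₀⟩ : Nonempty X := inferInstance
  obtain ⟨ξ, -, hξ⟩ := exists_maximal_generization x₀
  have hcl : IsClopen (closure {ξ} : Set X) := by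
    refine ⟨isClosed_closure, isOpen_iff_mem_nhds.mpr fun z hz ↦ ?_⟩
    have : ξ = z' z := (huniq z z (hzO z)).2 ξ (specializes_iff_mem_closure.mpr hz) hξ
    refine Filter.mem_of_superset ((O z).2.mem_nhds (hzO z)) fun w hw ↦ ?_
    rw [this]; exact (huniq z w hw).1.mem_closure
  have huniv : closure {ξ} = (Set.univ : Set X) :=
    (isClopen_iff.mp hcl).resolve_left fun h ↦ by
      have : ξ ∈ closure ({ξ} : Set X) := subset_closure rfl
      rw [h] at this; exact this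
  rw [irreducibleSpace_def, Set.top_eq_univ, ← huniv]
  exact isIrreducible_singleton.closure

theorem etaleAt_of_comp_etaleAt {Z : Scheme.{u}} (f : X ⟶ Y) (g : Y ⟶ Z) [IsIntegral Y] (x : X)
    (hY : CAlg2.IsGeomUnibranch (Y.presheaf.stalk (f x)))
    (het : ∃ U : X.Opens, x ∈ U ∧ Etale (U.ι ≫ f ≫ g))
    (hsp : ∃ x' : X, x' ⤳ x ∧ f x' = genericPoint Y) :
    (∃ U : X.Opens, x ∈ U ∧ Etale (U.ι ≫ f)) ∧ ∃ V : Y.Opens, f x ∈ V ∧ Etale (V.ι ≫ g) := by
  obtain ⟨U, hxU, hU⟩ := het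
  haveI : Etale ((U.ι ≫ f) ≫ g) := by rwa [Category.assoc]
  haveI : LocallyOfFiniteType (U.ι ≫ f) := locallyOfFiniteType_of_comp (U.ι ≫ f) g
  haveI : FormallyUnramified (U.ι ≫ f) := FormallyUnramified.of_comp (U.ι ≫ f) g
  obtain ⟨x', hx', hgen⟩ := hsp
  obtain ⟨O, hxO, hO, -⟩ := exists_etale_irreducible_nbhd (U.ι ≫ f) (⟨x, hxU⟩ : U) hY
    ⟨x', hx'.mem_open U.2 hxU⟩
    (IsInducing.subtypeVal.specializes_iff.mp hx') hgen ⟨⊤, trivial, formallyUnramified_comp_openImmersion _ _⟩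
  haveI := hO
  let j := O.ι ≫ U.ι
  have hje : Etale (j ≫ f) := by rw [Category.assoc]; exact hO
  refine ⟨⟨j.opensRange, ⟨⟨⟨x, hxU⟩, hxO⟩, rfl⟩, ?_⟩, ?_⟩
  · rw [← MorphismProperty.cancel_left_of_respectsIso @Etale j.isoOpensRange.hom,
      Scheme.Hom.isoOpensRange_hom_ι_assoc]
    exact hje
  · haveI := hje
    let V : Y.Opens := ⟨Set.range (j ≫ f), (j ≫ f).isOpenMap.isOpen_range⟩
    refine ⟨V, ⟨⟨⟨x, hxU⟩, hxO⟩, rfl⟩, ?_⟩
    let c : (O : Scheme.{u}) ⟶ (V : Scheme.{u}) :=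
      IsOpenImmersion.lift V.ι (j ≫ f) (by rw [Scheme.Opens.range_ι]; exact subset_rfl)
    have hc : c ≫ V.ι = j ≫ f := IsOpenImmersion.lift_fac _ _ _
    haveI : Etale (c ≫ V.ι) := by rw [hc]; exact hje
    haveI : Etale c := Etale.of_comp c V.ι
    haveI : Surjective c := ⟨fun v ↦ by
      obtain ⟨t, ht⟩ : v.1 ∈ Set.range (j ≫ f) := v.2
      exact ⟨t, V.ι.isOpenEmbedding.injective (by rw [← Scheme.Hom.comp_apply, hc]; exact ht)⟩⟩
    refine GrothLib.AlgSp.etaleSourceDescends_etale c (V.ι ≫ g) inferInstance inferInstance ?_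
    rw [← Category.assoc, hc]
    show Etale (((O.ι ≫ U.ι) ≫ f) ≫ g)
    simp only [Category.assoc]
    infer_instance

end GrothLib.Unibranch
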