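import Groth.Agent.Lib.Unibranch.Etale
import Mathlib.AlgebraicGeometry.Morphisms.Etale
import Mathlib.AlgebraicGeometry.Morphisms.UniversallyOpen
import Mathlib.AlgebraicGeometry.Morphisms.QuasiFinite
import Mathlib.AlgebraicGeometry.Stalk

/-! # Maximal points above geometrically unibranch points -/

universe u

open CategoryTheory Limits AlgebraicGeometry Topology

namespace GrothLib.Unibranch

variable {X Y : Scheme.{u}}

theorem exists_maximal_generization (x : X) : ∃ ζ : X, ζ ⤳ x ∧ ∀ z, z ⤳ ζ → z = ζ := by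
  obtain ⟨ζ, hζ⟩ := QuasiSober.sober (isIrreducible_irreducibleComponent (x := x))
    isClosed_irreducibleComponent
  refine ⟨ζ, hζ.specializes mem_irreducibleComponent, fun z hz ↦ ?_⟩
  have hsub : irreducibleComponent x ⊆ closure {z} := by
    rw [← hζ.def]; exact closure_minimal (Set.singleton_subset_iff.mpr hz.mem_closure) isClosed_closure
  have hle := (irreducibleComponent_mem_irreducibleComponents x).2
    (isIrreducible_singleton (x := z)).closure hsub
  exact (hz.antisymm (hζ.specializes (hle (subset_closure rfl)))).eq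

theorem isGenericPoint_of_maximal (ξ : X) (hmax : ∀ z, z ⤳ ξ → z = ξ) :
    closure {ξ} ∈ irreducibleComponents X := by
  refine ⟨isIrreducible_singleton.closure, fun Z hZ hle ↦ ?_⟩
  obtain ⟨z, hz⟩ := QuasiSober.sober hZ.closure isClosed_closure
  have : z = ξ := hmax z (hz.specializes (subset_closure (hle (subset_closure rfl))))
  subst this
  rw [hz.def]; exact subset_closure

theorem maximal_of_isGenericPoint {W : Set X} (hW : W ∈ irreducibleComponents X) {ξ : X}
    (hξ : IsGenericPoint ξ W) (z : X) (hz : z ⤳ ξ) : z = ξ := by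
  have hsub : W ⊆ closure {z} := by
    rw [← hξ.def]
    exact closure_minimal (Set.singleton_subset_iff.mpr hz.mem_closure) isClosed_closure
  have := hW.2 (isIrreducible_singleton (x := z)).closure hsub (subset_closure rfl)
  exact (hz.antisymm (hξ.specializes this)).eq

/-- A generalizing map sends maximal points to maximal points. -/
theorem maximal_map (f : X ⟶ Y) (hf : GeneralizingMap f) (x : X) (hmax : ∀ z, z ⤳ x → z = x)
    (y : Y) (hy : y ⤳ f x) : y = f x := by
  obtain ⟨z, hz, rfl⟩ := hf hy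
  rw [hmax z hz]

/-- Over a point which is generic in a component, points of a locally quasi-finite morphism are
maximal. -/
theorem maximal_of_locallyQuasiFinite (f : X ⟶ Y) [LocallyQuasiFinite f] (x : X)
    (hmax : ∀ y, y ⤳ f x → y = f x) (z : X) (hz : z ⤳ x) : z = x := by
  have hfz : f z = f x := hmax _ (hz.map f.continuous)
  haveI : DiscreteTopology (f ⁻¹' {f x}) :=
    isDiscrete_iff_discreteTopology.mp (f.isDiscrete_preimage_singleton (f x))
  have : (⟨z, hfz⟩ : f ⁻¹' {f x}) ⤳ ⟨x, rfl⟩ := IsInducing.subtypeVal.specializes_iff.mp hz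
  exact congrArg Subtype.val (specializes_iff_eq.mp this)

theorem eq_of_maximal_over_stalk {U : Scheme.{u}} {A : CommRingCat.{u}} [IsLocalRing A]
    (hA : CAlg2.IsGeomUnibranch A) (π : U ⟶ Spec A) [Etale π] (u : U)
    (hu : π u = IsLocalRing.closedPoint A) (η₁ η₂ : U) (h₁ : η₁ ⤳ u) (h₂ : η₂ ⤳ u)
    (hm₁ : ∀ z, z ⤳ η₁ → z = η₁) (hm₂ : ∀ z, z ⤳ η₂ → z = η₂) : η₁ = η₂ := by
  obtain ⟨_, ⟨W, hW, rfl⟩, huW, -⟩ :=
    U.isBasis_affineOpens.exists_subset_of_mem_open (Set.mem_univ u) isOpen_univ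
  obtain ⟨φ, hφ⟩ := Spec.map_surjective (hW.fromSpec ≫ π)
  have hφe : φ.hom.Etale := by
    rw [← HasRingHomProperty.Spec_iff (P := @Etale), hφ]; infer_instance
  letI := φ.hom.toAlgebra
  haveI : Algebra.Etale A Γ(U, W) := hφe
  have hmem : ∀ η, η ⤳ u → ∃ P : Spec Γ(U, W), hW.fromSpec P = η := fun η hη ↦ by
    have : η ∈ Set.range hW.fromSpec := by rw [hW.range_fromSpec]; exact hη.mem_open W.2 huW
    exact this
  obtain ⟨q, rfl⟩ := hmem u specializes_rfl
  obtain ⟨P₁, rfl⟩ := hmem η₁ h₁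
  obtain ⟨P₂, rfl⟩ := hmem η₂ h₂
  have hspec : ∀ {P Q : Spec Γ(U, W)}, hW.fromSpec P ⤳ hW.fromSpec Q ↔ P ⤳ Q :=
    hW.fromSpec.isOpenEmbedding.isInducing.specializes_iff
  have hmin : ∀ P : Spec Γ(U, W), (∀ z, z ⤳ hW.fromSpec P → z = hW.fromSpec P) →
      (P : PrimeSpectrum Γ(U, W)).asIdeal ∈ minimalPrimes Γ(U, W) := fun P hP ↦ by
    refine ⟨⟨(P : PrimeSpectrum Γ(U, W)).2, bot_le⟩, fun Q hQ hle ↦ ?_⟩
    have hs : hW.fromSpec (⟨Q, hQ.1⟩ : PrimeSpectrum Γ(U, W)) ⤳ hW.fromSpec P :=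
      hspec.mpr ((PrimeSpectrum.le_iff_specializes _ _).mp hle)
    rw [← hW.fromSpec.isOpenEmbedding.injective (hP _ hs)]
  have hq : (q : PrimeSpectrum Γ(U, W)).asIdeal.comap (algebraMap A Γ(U, W)) =
      IsLocalRing.maximalIdeal A := by
    refine congrArg PrimeSpectrum.asIdeal
      (?_ : PrimeSpectrum.comap φ.hom q = IsLocalRing.closedPoint A)
    rw [← Scheme.Hom.comp_apply, ← hφ] at hu
    exact hu
  have := eq_of_minimalPrimes_le hA _ hq _ _ (hmin P₁ hm₁) (hmin P₂ hm₂)
    ((PrimeSpectrum.le_iff_specializes _ _).mpr (hspec.mp h₁))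
    ((PrimeSpectrum.le_iff_specializes _ _).mpr (hspec.mp h₂))
  rw [show P₁ = P₂ from PrimeSpectrum.ext this]

/-- Over a geometrically unibranch point only one maximal point of an etale scheme specialises to a
given point. -/
theorem eq_of_maximal_of_etale {U : Scheme.{u}} (g : U ⟶ Y) [Etale g] (u : U)
    (hY : CAlg2.IsGeomUnibranch (Y.presheaf.stalk (g u))) (η₁ η₂ : U) (h₁ : η₁ ⤳ u) (h₂ : η₂ ⤳ u)
    (hm₁ : ∀ z, z ⤳ η₁ → z = η₁) (hm₂ : ∀ z, z ⤳ η₂ → z = η₂) : η₁ = η₂ := by
  let s := Y.fromSpecStalk (g u)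
  let j := pullback.fst g s
  have hrange : Set.range j = g ⁻¹' {z | z ⤳ g u} := by
    rw [Scheme.Pullback.range_fst, Scheme.range_fromSpecStalk]
  have hmem : ∀ η, η ⤳ u → η ∈ Set.range j := fun η hη ↦ by
    rw [hrange]; exact hη.map g.continuous
  obtain ⟨q, hqu⟩ := hmem u specializes_rfl
  obtain ⟨P₁, rfl⟩ := hmem η₁ h₁
  obtain ⟨P₂, rfl⟩ := hmem η₂ h₂
  replace h₁ : j P₁ ⤳ j q := h₁.trans (specializes_of_eq hqu.symm)
  replace h₂ : j P₂ ⤳ j q := h₂.trans (specializes_of_eq hqu.symm)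
  have hemb : IsEmbedding j := j.isEmbedding
  have hq : pullback.snd g s q = IsLocalRing.closedPoint (Y.presheaf.stalk (g u)) := by
    apply s.isEmbedding.injective
    rw [← Scheme.Hom.comp_apply, ← pullback.condition, Scheme.fromSpecStalk_closedPoint,
      Scheme.Hom.comp_apply]
    exact congrArg g hqu
  have key := eq_of_maximal_over_stalk hY (pullback.snd g s) q hq P₁ P₂
    (hemb.isInducing.specializes_iff.mp h₁) (hemb.isInducing.specializes_iff.mp h₂)
    (fun z hz ↦ hemb.injective (hm₁ _ (hz.map j.continuous)))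
    (fun z hz ↦ hemb.injective (hm₂ _ (hz.map j.continuous)))
  rw [key]

end GrothLib.Unibranch
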