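import Groth.Prelude.Def_CAlg2
import Mathlib.RingTheory.Smooth.IntegralClosure
import Mathlib.RingTheory.Etale.Field
import Mathlib.RingTheory.Unramified.Field
import Mathlib.RingTheory.Artinian.Module
import Mathlib.RingTheory.Ideal.GoingUp
import Mathlib.RingTheory.Ideal.MinimalPrime.Localization
import Mathlib.Algebra.CharP.Lemmas

/-! # Etale algebras over geometrically unibranch local rings -/

universe u

open TensorProduct IsLocalRing

namespace GrothLib.Unibranch

theorem exists_isIdempotentElem_separating {B : Type*} [CommRing B] [IsArtinianRing B]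
    [IsReduced B] (N₁ N₂ : MaximalSpectrum B) (h : N₁ ≠ N₂) :
    ∃ e : B, IsIdempotentElem e ∧ e ∈ N₁.asIdeal ∧ 1 - e ∈ N₂.asIdeal := by
  classical
  let φ := IsArtinianRing.equivPi B
  let ε : ∀ I : MaximalSpectrum B, B ⧸ I.asIdeal := Pi.single N₂ 1
  have hφ : ∀ (b : B) (I : MaximalSpectrum B), φ b I = Ideal.Quotient.mk I.asIdeal b :=
    fun b I ↦ rfl
  refine ⟨φ.symm ε, ?_, ?_, ?_⟩
  · apply φ.injective
    rw [map_mul, φ.apply_symm_apply]
    ext I
    by_cases hI : I = N₂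
    · subst hI; simp [ε]
    · simp [ε, Pi.single_eq_of_ne hI]
  · rw [← Ideal.Quotient.eq_zero_iff_mem, ← hφ, φ.apply_symm_apply]
    exact Pi.single_eq_of_ne h _
  · rw [← Ideal.Quotient.eq_zero_iff_mem, map_sub, map_one, ← hφ, φ.apply_symm_apply]
    simp [ε]

/-- Elements of a base change along a radicial map are, up to `p`-powers, constants. -/
theorem exists_pow_sub_mem {A C A' : Type u} [CommRing A] [CommRing C] [Algebra A C] [CommRing A']
    [Algebra A A'] (m' : Ideal A') [m'.IsMaximal]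
    (hpi : ∀ a : A', ∃ (n : ℕ) (r : A),
      a ^ ringExpChar (A' ⧸ m') ^ n - algebraMap A A' r ∈ m') (z : C ⊗[A] A') :
    ∃ (n : ℕ) (c : C), z ^ ringExpChar (A' ⧸ m') ^ n - c ⊗ₜ 1 ∈
      m'.map (Algebra.TensorProduct.includeRight : A' →ₐ[A] C ⊗[A] A') := by
  set J := m'.map (Algebra.TensorProduct.includeRight : A' →ₐ[A] C ⊗[A] A')
  set p := ringExpChar (A' ⧸ m')
  suffices ∃ (n : ℕ) (c : C),
      (Ideal.Quotient.mk J z) ^ p ^ n = Ideal.Quotient.mk J (c ⊗ₜ 1) by
    obtain ⟨n, c, h⟩ := this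
    exact ⟨n, c, Ideal.Quotient.eq.mp ((map_pow _ _ _).trans h)⟩
  rcases subsingleton_or_nontrivial ((C ⊗[A] A') ⧸ J) with hs | hn
  · exact ⟨0, 0, Subsingleton.elim _ _⟩
  let ι : A' ⧸ m' →+* (C ⊗[A] A') ⧸ J :=
    Ideal.Quotient.lift m' ((Ideal.Quotient.mk J).comp
      (Algebra.TensorProduct.includeRight : A' →ₐ[A] C ⊗[A] A').toRingHom) fun a ha ↦
        Ideal.Quotient.eq_zero_iff_mem.mpr (Ideal.mem_map_of_mem _ ha)
  letI := Ideal.Quotient.field m'
  haveI : ExpChar ((C ⊗[A] A') ⧸ J) p := expChar_of_injective_ringHom ι.injective p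
  induction z using TensorProduct.induction_on with
  | zero =>
    refine ⟨0, 0, ?_⟩
    simp
  | tmul c a =>
    obtain ⟨n, r, hr⟩ := hpi a
    refine ⟨n, r • c ^ p ^ n, ?_⟩
    rw [← map_pow, Algebra.TensorProduct.tmul_pow, Ideal.Quotient.eq]
    have : (c ^ p ^ n) ⊗ₜ[A] (a ^ p ^ n) - (r • c ^ p ^ n) ⊗ₜ[A] (1 : A') =
        (c ^ p ^ n) ⊗ₜ[A] (1 : A') * (1 : C) ⊗ₜ[A] (a ^ p ^ n - algebraMap A A' r) := by
      rw [Algebra.TensorProduct.tmul_mul_tmul, mul_one, one_mul, TensorProduct.tmul_sub,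
        Algebra.algebraMap_eq_smul_one, TensorProduct.tmul_smul, TensorProduct.smul_tmul']
    rw [this]
    exact Ideal.mul_mem_left _ _ (Ideal.mem_map_of_mem _ hr)
  | add x y hx hy =>
    obtain ⟨n, c, hc⟩ := hx
    obtain ⟨n', c', hc'⟩ := hy
    refine ⟨n + n', c ^ p ^ n' + c' ^ p ^ n, ?_⟩
    rw [map_add, add_pow_expChar_pow, TensorProduct.add_tmul, map_add]
    congr 1
    · rw [pow_add, pow_mul, hc, ← map_pow, Algebra.TensorProduct.tmul_pow, one_pow]
    · rw [pow_add, mul_comm (p ^ n), pow_mul, hc', ← map_pow, Algebra.TensorProduct.tmul_pow,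
        one_pow]

theorem eq_of_minimalPrimes_le_domain {A C : Type u} [CommRing A] [IsDomain A] [IsLocalRing A]
    [CommRing C] [Algebra A C] [Algebra.Etale A C]
    [IsLocalRing (integralClosure A (FractionRing A))]
    (hpi : ∀ a : integralClosure A (FractionRing A), ∃ (n : ℕ) (r : A),
      a ^ ringExpChar (integralClosure A (FractionRing A) ⧸
        maximalIdeal (integralClosure A (FractionRing A))) ^ n -
          algebraMap A (integralClosure A (FractionRing A)) r ∈
            maximalIdeal (integralClosure A (FractionRing A)))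
    (q : Ideal C) [q.IsPrime] (hq : q.comap (algebraMap A C) = maximalIdeal A)
    (P₁ P₂ : Ideal C) (h₁ : P₁ ∈ minimalPrimes C) (h₂ : P₂ ∈ minimalPrimes C)
    (h₁q : P₁ ≤ q) (h₂q : P₂ ≤ q) : P₁ = P₂ := by
  haveI : Nontrivial C := Ideal.Quotient.mk q |>.domain_nontrivial
  let K := FractionRing A
  let A' := integralClosure A K
  let C' := C ⊗[A] A'
  let B := C ⊗[A] K
  let ι : C' →ₐ[C] B := Algebra.TensorProduct.map (.id C C) A'.val
  have hι : ∀ b : B, IsIdempotentElem b → ∃ z, ι z = b := fun b hb ↦ by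
    have hint : b ∈ integralClosure C B := by
      refine ⟨Polynomial.X ^ 2 - Polynomial.X, (Polynomial.monic_X_pow 2).sub_of_left ?_, ?_⟩
      · rw [Polynomial.degree_X_pow, Polynomial.degree_X]; norm_num
      · rw [Polynomial.eval₂_sub, Polynomial.eval₂_X_pow, Polynomial.eval₂_X, pow_two, hb.eq,
          sub_self]
    obtain ⟨z, hz⟩ := (TensorProduct.toIntegralClosure_bijective_of_smooth
      (R := A) (S := C) (B := K)).2 ⟨b, hint⟩
    exact ⟨z, congrArg Subtype.val hz⟩
  let eB : B ≃ₐ[A] K ⊗[A] C := Algebra.TensorProduct.comm A C K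
  haveI : IsReduced (K ⊗[A] C) := Algebra.FormallyUnramified.isReduced_of_field K _
  haveI : Module.Finite K (K ⊗[A] C) := Algebra.FormallyUnramified.finite_of_free _ _
  haveI : IsArtinianRing (K ⊗[A] C) := isArtinian_of_tower K inferInstance
  haveI : IsReduced B := isReduced_of_injective eB eB.injective
  haveI : IsArtinianRing B := eB.symm.surjective.isArtinianRing
  have hinj : Function.Injective (algebraMap C B) :=
    Algebra.TensorProduct.includeLeft_injective (R := A) (S := C) (A := C) (B := K)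
      (IsFractionRing.injective A K)
  obtain ⟨N₁, hN₁, hN₁P⟩ := Ideal.exists_comap_eq_of_mem_minimalPrimes_of_injective hinj P₁ h₁
  obtain ⟨N₂, hN₂, hN₂P⟩ := Ideal.exists_comap_eq_of_mem_minimalPrimes_of_injective hinj P₂ h₂
  by_contra hne
  haveI : N₁.IsMaximal := IsArtinianRing.isMaximal_of_isPrime N₁
  haveI : N₂.IsMaximal := IsArtinianRing.isMaximal_of_isPrime N₂
  obtain ⟨e, hee, he₁, he₂⟩ := exists_isIdempotentElem_separating (⟨N₁, inferInstance⟩ :
    MaximalSpectrum B) ⟨N₂, inferInstance⟩ fun h ↦ hne (by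
      rw [← hN₁P, ← hN₂P, show N₁ = N₂ from congrArg MaximalSpectrum.asIdeal h])
  obtain ⟨e', rfl⟩ := hι e hee
  haveI : Algebra.IsIntegral C C' := inferInstance
  have hQ : ∀ (N : Ideal B) (P : Ideal C), N.IsPrime → N.comap (algebraMap C B) = P → P ≤ q →
      ∃ Q : Ideal C', Q.IsPrime ∧ N.comap ι ≤ Q ∧ Q.comap (algebraMap C C') = q ∧
        (maximalIdeal A').map (Algebra.TensorProduct.includeRight : A' →ₐ[A] C') ≤ Q := by
    intro N P hN hP hPq
    obtain ⟨Q, hNQ, hQp, hQq⟩ := Ideal.exists_ideal_over_prime_of_isIntegral q (N.comap ι) (by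
      refine le_trans ?_ (hP.le.trans hPq)
      intro c hc
      show algebraMap C B c ∈ N
      rw [← ι.commutes]; exact hc)
    refine ⟨Q, hQp, hNQ, hQq, Ideal.map_le_iff_le_comap.mpr ?_⟩
    haveI := hQp
    haveI : ((Q.comap (Algebra.TensorProduct.includeRight : A' →ₐ[A] C')).comap
        (algebraMap A A')).IsMaximal := by
      rw [show (Q.comap (Algebra.TensorProduct.includeRight : A' →ₐ[A] C')).comap (algebraMap A A')
        = (Q.comap (algebraMap C C')).comap (algebraMap A C) from ?_, hQq, hq]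
      · infer_instance
      · ext r
        simp only [Ideal.mem_comap, AlgHom.commutes]
        rw [← IsScalarTower.algebraMap_apply A C C']
    haveI := Ideal.isMaximal_of_isIntegral_of_isMaximal_comap (R := A) (S := A')
      (Q.comap (Algebra.TensorProduct.includeRight : A' →ₐ[A] C')) ‹_›
    exact (eq_maximalIdeal (R := A') (I := Q.comap (Algebra.TensorProduct.includeRight :
      A' →ₐ[A] C')) ‹_›).ge
  obtain ⟨Q₁, hQ₁p, hQ₁, hQ₁q, hQ₁m⟩ := hQ N₁ P₁ hN₁ hN₁P h₁q
  obtain ⟨Q₂, hQ₂p, hQ₂, hQ₂q, hQ₂m⟩ := hQ N₂ P₂ hN₂ hN₂P h₂q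
  obtain ⟨n, c, hc⟩ := exists_pow_sub_mem (C := C) (maximalIdeal A') hpi e'
  have hp : 0 < ringExpChar (A' ⧸ maximalIdeal A') ^ n := by
    letI := Ideal.Quotient.field (maximalIdeal A')
    exact pow_pos (expChar_pos (A' ⧸ maximalIdeal A') _) n
  have he₁' : e' ∈ Q₁ := hQ₁ he₁
  have hcq : c ∈ q := by
    rw [← hQ₁q]
    show c ⊗ₜ[A] (1 : A') ∈ Q₁
    simpa using Ideal.sub_mem _ (Ideal.pow_mem_of_mem _ he₁' _ hp) (hQ₁m hc)
  have hc₂ : algebraMap C C' c ∈ Q₂ := by rw [← Ideal.mem_comap, hQ₂q]; exact hcq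
  have he₂' : e' ∈ Q₂ :=
    hQ₂p.mem_of_pow_mem (ringExpChar (A' ⧸ maximalIdeal A') ^ n)
      (by have h3 : c ⊗ₜ[A] (1 : A') ∈ Q₂ := hc₂
          simpa using Ideal.add_mem _ (hQ₂m hc) h3)
  refine hQ₂p.ne_top ((Ideal.eq_top_iff_one _).mpr ?_)
  have h1 : 1 - e' ∈ Q₂ := hQ₂ (show ι (1 - e') ∈ N₂ by rw [map_sub, map_one]; exact he₂)
  simpa using Ideal.add_mem _ h1 he₂'

/-- An etale algebra over a geometrically unibranch local ring has one minimal prime below a given
prime over the closed point. -/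
theorem eq_of_minimalPrimes_le {A C : Type u} [CommRing A] [IsLocalRing A] [CommRing C]
    [Algebra A C] [Algebra.Etale A C] (hA : CAlg2.IsGeomUnibranch A)
    (q : Ideal C) [q.IsPrime] (hq : q.comap (algebraMap A C) = maximalIdeal A)
    (P₁ P₂ : Ideal C) (h₁ : P₁ ∈ minimalPrimes C) (h₂ : P₂ ∈ minimalPrimes C)
    (h₁q : P₁ ≤ q) (h₂q : P₂ ≤ q) : P₁ = P₂ := by
  obtain ⟨⟨hD, hloc⟩, hpi⟩ := hA
  haveI := hD
  haveI := hloc
  let D := CAlg2.red A
  haveI : IsLocalRing D :=
    .of_surjective' (Ideal.Quotient.mk (nilradical A)) Ideal.Quotient.mk_surjective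
  haveI : IsLocalHom (Ideal.Quotient.mk (nilradical A)) :=
    IsLocalHom.of_surjective _ Ideal.Quotient.mk_surjective
  let e := Algebra.TensorProduct.quotIdealMapEquivQuotTensor C (nilradical A)
  let g : C →+* D ⊗[A] C :=
    (e.toRingEquiv.toRingHom).comp (Ideal.Quotient.mk ((nilradical A).map (algebraMap A C)))
  have hg : Function.Surjective g := e.surjective.comp Ideal.Quotient.mk_surjective
  have hker : RingHom.ker g ≤ nilradical C := by
    intro x hx
    have : Ideal.Quotient.mk ((nilradical A).map (algebraMap A C)) x = 0 :=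
      e.injective (hx.trans (map_zero e).symm)
    rw [Ideal.Quotient.eq_zero_iff_mem] at this
    refine Ideal.map_le_iff_le_comap.mpr (fun a ha ↦ ?_) this
    exact (show IsNilpotent a from ha).map (algebraMap A C)
  have hgA : ∀ a : A, g (algebraMap A C a) = algebraMap D (D ⊗[A] C) (Ideal.Quotient.mk _ a) := by
    intro a
    rw [← Ideal.Quotient.algebraMap_eq, ← IsScalarTower.algebraMap_apply A D (D ⊗[A] C)]
    exact e.toAlgHom.restrictScalars A |>.commutes a
  have hmap : ∀ P : Ideal C, P.IsPrime →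
      (P.map g).IsPrime ∧ (P.map g).comap g = P := fun P hP ↦ by
    have : RingHom.ker g ≤ P := hker.trans (nilradical_le_prime P)
    exact ⟨Ideal.map_isPrime_of_surjective hg this, by
      rw [Ideal.comap_map_of_surjective _ hg]; exact sup_eq_left.mpr this⟩
  have hmin : ∀ P ∈ minimalPrimes C, P.map g ∈ minimalPrimes (D ⊗[A] C) := fun P hP ↦ by
    have hPp : P.IsPrime := hP.1.1
    refine ⟨⟨(hmap P hPp).1, bot_le⟩, fun Q hQ hle ↦ ?_⟩
    haveI := hQ.1
    have h : Q.comap g ≤ P := (Ideal.comap_mono hle).trans (hmap P hPp).2.le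
    rw [Ideal.map_le_iff_le_comap]
    exact hP.2 ⟨inferInstance, bot_le⟩ h
  haveI := (hmap q ‹_›).1
  have key := eq_of_minimalPrimes_le_domain (A := D) (C := D ⊗[A] C) ?_ (q.map g) ?_ _ _
    (hmin P₁ h₁) (hmin P₂ h₂) (Ideal.map_mono h₁q) (Ideal.map_mono h₂q)
  · rw [← (hmap P₁ h₁.1.1).2, ← (hmap P₂ h₂.1.1).2, key]
  · intro a
    obtain ⟨n, r, hr⟩ := hpi (maximalIdeal (CAlg2.normRed A)) (Ideal.Quotient.mk _ a)
    refine ⟨n, Ideal.Quotient.mk _ r, ?_⟩
    rw [← Ideal.Quotient.eq, map_pow]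
    exact hr.symm
  · apply le_antisymm
    · exact le_maximalIdeal (Ideal.comap_ne_top _ ‹(q.map g).IsPrime›.ne_top)
    · intro d hd
      obtain ⟨a, rfl⟩ := Ideal.Quotient.mk_surjective d
      rw [Ideal.mem_comap, ← hgA]
      apply Ideal.mem_map_of_mem
      rw [← Ideal.mem_comap, hq]
      intro ha
      exact hd (ha.map _)

end GrothLib.Unibranch
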